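import Groth.Agent.Lib.Cech.Criterion
import Groth.Agent.H95.Units.ClosedPush

/-!
# Vanishing of `H¹` kills Cech 1-cocycles
-/

set_option autoImplicit false
universe u

open CategoryTheory CategoryTheory.Limits TopologicalSpace Opposite

namespace Groth.Agent.H95.Torsor

open Groth.Agent.Lib.Cech.Complex Groth.Agent.Lib.Cech.Sections Groth.Agent.Lib.Cech.Criterion
  Groth.Agent.Lib.Cech.Acyclic

theorem exists_coboundary {X : TopCat.{u}} (F : CohTop.Ab X) (h : Subsingleton (CohTop.H F 1))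
    {ι : Type u} (U : ι → Opens X) (hU : iSup U = ⊤) (c : Cochain U F.obj 1)
    (hc : dC U F.obj 1 c = 0) : ∃ a, dC U F.obj 0 a = c := by
  let S := cokerSeq (Injective.ι F)
  have hS : S.ShortExact := cokerSeq_shortExact _
  haveI : Injective S.X₂ := inferInstanceAs (Injective (Injective.under F))
  haveI : Subsingleton (CohTop.HU S.X₁ 1 (⊤ : Opens X)) :=
    (Lib.ZarCoh.Compare.hTop F 1).symm.toEquiv.subsingleton
  obtain ⟨b, hb⟩ := exactSucc_of_injective U S.X₂ 0 (Groth.Agent.Lib.Cech.Complex.map S.f.hom 1 c)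
    (by rw [← map_dC, hc, map_zero])
  have hgb : dC U S.X₃.obj 0 (Groth.Agent.Lib.Cech.Complex.map S.g.hom 0 b) = 0 := by
    rw [← map_dC, hb]
    exact funext fun i => app_zero _ _
  obtain ⟨q, hq⟩ := exists_aug_eq U S.X₃ hU _ hgb
  obtain ⟨y, hy⟩ := app_surjective hS ⊤ q
  let hle : ∀ i, U i ≤ (⊤ : Opens X) := fun i => le_top
  obtain ⟨a, ha⟩ := exists_map_eq hS U 0 (b - aug U S.X₂.obj hle y) (by
    rw [map_sub, sub_eq_zero, ← hq]
    refine funext fun i => ?_
    show res S.X₃.obj _ q = S.g.hom.app _ (res S.X₂.obj _ y)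
    rw [res_naturality, hy])
  refine ⟨a, map_f_injective hS U 1 ?_⟩
  rw [map_dC, ha, map_sub, dC_aug, sub_zero, hb]

end Groth.Agent.H95.Torsor
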