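import Groth.Agent.H95.Torsor.Pic
import Groth.Agent.H95.UnitsSeq
import Groth.Agent.Lib.Modules.ClosedUnit
import Groth.Agent.H95.Units.ClosedPush
import Groth.Agent.H95.Units.Main

/-!
# Uniqueness of lifts of line bundles
-/

set_option autoImplicit false
universe u

open CategoryTheory CategoryTheory.Limits AlgebraicGeometry TopologicalSpace Opposite

namespace Groth.Agent.H95.Torsor

open Groth.Agent.Lib.TensorMod.Pullback Groth.Agent.Lib.TensorMod.Invertible
open Groth.Agent.H95.Units (K Cuts α)

variable {X Z : Scheme.{u}}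

/-- line bundles with isomorphic restrictions are isomorphic -/
theorem iso_of_pullback_iso (i : Z ⟶ X) [IsClosedImmersion i] [Surjective i]
    (h : Subsingleton (CohTop.H (K i) 1)) {L L' : X.Modules} (hL : PicF.IsInvertible L)
    (hL' : PicF.IsInvertible L')
    (e : (Scheme.Modules.pullback i).obj L ≅ (Scheme.Modules.pullback i).obj L') :
    Nonempty (L ≅ L') := by
  let D := Groth.Agent.Lib.TensorMod.Dual.dual L'
  haveI h1 := isIso_delta i L D
  haveI h2 := isIso_delta i L' D
  let t : (Scheme.Modules.pullback i).obj (CohB1.tensorMod L D) ≅ Coh.structureModule Z :=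
    asIso (delta i L D) ≪≫ Groth.Agent.Lib.TensorMod.Basic.tensorIso e (Iso.refl _) ≪≫
      (asIso (delta i L' D)).symm ≪≫ (Scheme.Modules.pullback i).mapIso (tensorDualIso hL') ≪≫
      PicLoc.pullbackStructureIso i
  obtain ⟨s⟩ := trivial_of_trivial_pullback i h (isInvertible_tensorMod hL (isInvertible_dual hL')) t
  exact ⟨cancelRight (isInvertible_dual hL') (s ≪≫ (tensorDualIso hL').symm)⟩

/-- the kernel of the units map of a square zero ideal -/
theorem subsingleton_H_K_of_ideal (J : X.IdealSheafData) (hJ : J * J = ⊥) (q : ℕ)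
    (h : Subsingleton (CohTop.H (Coh.toAb (ClSub.idealMod J)) q)) :
    Subsingleton (CohTop.H (K J.subschemeι) q) := by
  have hS := H95.UnitsSeq.shortExact J hJ
  have e : Coh.toAb (ClSub.idealMod J) ≅ K J.subschemeι :=
    IsLimit.conePointUniqueUpToIso hS.fIsKernel (limit.isLimit (parallelPair (UnitsSh.comap J.subschemeι) 0))
  exact H95.Units.subsingleton_of_iso e.symm q h

/-- cohomology of a module killed by the ideal -/
theorem subsingleton_H_of_pullback (i : Z ⟶ X) [IsClosedImmersion i] (G : X.Modules)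
    (hG : ∀ (U : X.affineOpens) (a : Γ(X, U.1)), a ∈ i.ker.ideal U → ∀ s : Γ(G, U.1), a • s = 0) (q : ℕ)
    (h : Subsingleton (Coh.HH Z ((Scheme.Modules.pullback i).obj G) q)) :
    Subsingleton (CohTop.H (Coh.toAb G) q) := by
  have hu := Lib.Modules.ClosedUnit.isIso_unit i G hG
  obtain ⟨e⟩ := H95.Units.ClosedPush.nonempty_addEquiv (f := i.base) i.isClosedEmbedding
    (Coh.toAb ((Scheme.Modules.pullback i).obj G)) q
  haveI : Subsingleton (CohTop.H ((CohTop.push i.base).obj (Coh.toAb ((Scheme.Modules.pullback i).obj G))) q) :=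
    e.symm.toEquiv.subsingleton (α := CohTop.H ((CohTop.push i.base).obj _) q) (β := _)
  let g : Coh.toAb G ≅ (CohTop.push i.base).obj (Coh.toAb ((Scheme.Modules.pullback i).obj G)) :=
    (SheafOfModules.toSheaf X.ringCatSheaf).mapIso
      (@asIso _ _ _ _ ((Scheme.Modules.pullbackPushforwardAdjunction i).unit.app G) hu)
  exact H95.Units.subsingleton_of_iso g q inferInstance

/-- a square zero ideal kills itself -/
theorem smul_idealMod_eq_zero (J : X.IdealSheafData) (hJ : J * J = ⊥) (U : X.affineOpens) (a : Γ(X, U.1))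
    (ha : a ∈ J.subschemeι.ker.ideal U) (s : Γ(ClSub.idealMod J, U.1)) : a • s = 0 := by
  rw [Scheme.IdealSheafData.ker_subschemeι] at ha
  apply Lib.ClSub.Sections.idealModι_app_injective J
  rw [map_zero, Scheme.Modules.Hom.app_smul]
  refine H95.UnitsSeq.mul_eq_zero_of_app_eq_zero J hJ U.1 ?_ (H95.UnitsSeq.app_val J s)
  rw [← RingHom.mem_ker, J.ker_subschemeι_app]
  exact ha

variable {A : CommRingCat.{u}} {f : X ⟶ Spec A}

/-- `Cuts` for cartesian squares -/
theorem cuts_of_isPullback {B : CommRingCat.{u}} (φ : A ⟶ B) (hφ : Function.Surjective φ)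
    {i : Z ⟶ X} {q : Z ⟶ Spec B} (h : IsPullback i q f (Spec.map φ)) :
    Cuts f i (RingHom.ker φ.hom) := by
  have hc := H95.Units.cuts_pullback_fst (f := f) φ hφ
  haveI : IsClosedImmersion (Spec.map φ) := IsClosedImmersion.spec_of_surjective φ hφ
  refine ⟨MorphismProperty.of_isPullback (P := @IsClosedImmersion) h.flip ‹_›, fun V => ?_⟩
  rw [← hc.ker V, ← h.isoPullback_hom_fst]
  ext x
  exact map_eq_zero_iff _ (ConcreteCategory.bijective_of_isIso (h.isoPullback.hom.app _)).1

end Groth.Agent.H95.Torsor
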