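import Groth.Agent.H95.Torsor.Iso
import Groth.Agent.H95.Units.Main
import Mathlib.RingTheory.AdicCompletion.Basic
import Mathlib.RingTheory.Artinian.Ring

/-!
# Uniqueness of lifts of line bundles along an adic system
-/

set_option autoImplicit false
universe u

open CategoryTheory CategoryTheory.Limits AlgebraicGeometry TopologicalSpace Opposite

namespace Groth.Agent.H95.Torsor.Adic

open IsLocalRing

variable (A : Type u) [CommRing A] [IsLocalRing A] [IsNoetherianRing A]

abbrev fac {m n : ℕ} (h : m ≤ n) : CommRingCat.of (A ⧸ maximalIdeal A ^ n) ⟶ CommRingCat.of (A ⧸ maximalIdeal A ^ m) :=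
  CommRingCat.ofHom (Ideal.Quotient.factor (Ideal.pow_le_pow_right h))

lemma fac_surjective {m n : ℕ} (h : m ≤ n) : Function.Surjective (fac A h) :=
  Ideal.Quotient.factor_surjective (Ideal.pow_le_pow_right h)

lemma local_quotient (n : ℕ) : IsLocalRing (A ⧸ maximalIdeal A ^ (n + 1)) := by
  haveI : Nontrivial (A ⧸ maximalIdeal A ^ (n + 1)) := Ideal.Quotient.nontrivial_iff.2 fun h => by
    have : maximalIdeal A ^ (n + 1) ≤ maximalIdeal A := Ideal.pow_le_self n.succ_ne_zero
    rw [h, top_le_iff] at this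
    exact (maximalIdeal.isMaximal A).ne_top this
  exact IsLocalRing.of_surjective' _ Ideal.Quotient.mk_surjective

lemma artinian_quotient (n : ℕ) : IsArtinianRing (A ⧸ maximalIdeal A ^ (n + 1)) := by
  haveI := local_quotient A n
  rw [isArtinianRing_iff_isNilpotent_maximalIdeal]
  refine ⟨n + 1, ?_⟩
  have hle : maximalIdeal (A ⧸ maximalIdeal A ^ (n + 1)) ≤ (maximalIdeal A).map (Ideal.Quotient.mk _) := by
    intro x hx
    obtain ⟨a, rfl⟩ := Ideal.Quotient.mk_surjective x
    exact Ideal.mem_map_of_mem _ fun ha => hx (ha.map _)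
  refine le_bot_iff.1 ((Ideal.pow_right_mono hle (n + 1)).trans ?_)
  rw [← Ideal.map_pow, Ideal.map_quotient_self]

variable {A}
variable (Xs : ℕ → Scheme.{u}) (fs : ∀ n : ℕ, Xs n ⟶ Spec (CommRingCat.of (A ⧸ maximalIdeal A ^ (n + 1))))
  (ts : ∀ n : ℕ, Xs n ⟶ Xs (n + 1))
  (hcart : ∀ n : ℕ, IsPullback (ts n) (fs n) (fs (n + 1))
    (Spec.map (fac A (Nat.le_succ (n + 1)))))

include hcart in
lemma exists_closedFibre (n : ℕ) : ∃ j : Xs 0 ⟶ Xs n,
    IsPullback j (fs 0) (fs n) (Spec.map (fac A (Nat.succ_le_succ (Nat.zero_le n)))) := by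
  induction n with
  | zero =>
    refine ⟨𝟙 _, ?_⟩
    have : fac A (Nat.succ_le_succ (Nat.zero_le 0)) = 𝟙 _ := by
      ext x
      rfl
    rw [this, Spec.map_id]
    exact IsPullback.of_horiz_isIso ⟨by simp⟩
  | succ n ih =>
    obtain ⟨j, hj⟩ := ih
    refine ⟨j ≫ ts n, ?_⟩
    have : fac A (Nat.succ_le_succ (Nat.zero_le (n + 1))) =
        fac A (Nat.le_succ (n + 1)) ≫ fac A (Nat.succ_le_succ (Nat.zero_le n)) := by
      ext x
      rfl
    rw [this, Spec.map_comp]
    exact hj.paste_horiz (hcart n)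

variable (A) in
lemma ker_fac_le {n : ℕ} : letI := local_quotient A n
    RingHom.ker (fac A (Nat.succ_le_succ (Nat.zero_le n))).hom = maximalIdeal (A ⧸ maximalIdeal A ^ (n + 1)) := by
  letI := local_quotient A n
  have hmax : (RingHom.ker (fac A (Nat.succ_le_succ (Nat.zero_le n))).hom).IsMaximal := by
    have hf : IsField (A ⧸ maximalIdeal A ^ 1) := by
      rw [← Ideal.Quotient.maximal_ideal_iff_isField_quotient, pow_one]
      exact maximalIdeal.isMaximal A
    letI := hf.toField
    exact RingHom.ker_isMaximal_of_surjective _ (fac_surjective A _)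
  exact eq_maximalIdeal hmax

variable (hflat : ∀ n, Flat (fs n)) (h1 : Subsingleton (Coh.HH (Xs 0) (Coh.structureModule (Xs 0)) 1))

include hcart hflat h1 in
lemma step (n : ℕ) {L L' : (Xs (n + 1)).Modules} (hL : PicF.IsInvertible L) (hL' : PicF.IsInvertible L')
    (e : (Scheme.Modules.pullback (ts n)).obj L ≅ (Scheme.Modules.pullback (ts n)).obj L') :
    Nonempty (L ≅ L') := by
  letI := local_quotient A (n + 1)
  haveI := artinian_quotient A (n + 1)
  haveI := hflat (n + 1)
  obtain ⟨j, hj⟩ := exists_closedFibre Xs fs ts hcart (n + 1)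
  have hi₀ := cuts_of_isPullback _ (fac_surjective A _) hj
  rw [ker_fac_le A] at hi₀
  have hi := cuts_of_isPullback _ (fac_surjective A _) (hcart n)
  have hne : RingHom.ker (fac A (Nat.le_succ (n + 1))).hom ≠ ⊤ := by
    haveI := local_quotient A n
    exact RingHom.ker_ne_top _
  haveI := hi.closed
  haveI : Surjective (ts n) := by
    refine MorphismProperty.of_isPullback (P := @Surjective) (hcart n).flip ?_
    refine ⟨fun P => ?_⟩
    haveI : Subsingleton (PrimeSpectrum (A ⧸ maximalIdeal A ^ (n + 1 + 1))) := by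
      haveI := local_quotient A (n + 1)
      refine ⟨fun P Q => PrimeSpectrum.ext ?_⟩
      rw [IsLocalRing.eq_maximalIdeal (Ideal.IsPrime.isMaximal' P.isPrime),
        IsLocalRing.eq_maximalIdeal (Ideal.IsPrime.isMaximal' Q.isPrime)]
    haveI := local_quotient A n
    exact ⟨closedPoint (A ⧸ maximalIdeal A ^ (n + 1)), Subsingleton.elim (α := PrimeSpectrum _) _ _⟩
  exact iso_of_pullback_iso (ts n)
    (H95.Units.subsingleton_H_K hi₀ 1 h1 hi (IsLocalRing.le_maximalIdeal hne)) hL hL' e

include hcart hflat h1 in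
theorem levelwise_iso (L L' : ∀ n : ℕ, (Xs n).Modules) (hL : ∀ n, PicF.IsInvertible (L n))
    (hL' : ∀ n, PicF.IsInvertible (L' n))
    (hLt : ∀ n, Nonempty ((Scheme.Modules.pullback (ts n)).obj (L (n + 1)) ≅ L n))
    (hL't : ∀ n, Nonempty ((Scheme.Modules.pullback (ts n)).obj (L' (n + 1)) ≅ L' n))
    (e₀ : L 0 ≅ L' 0) : ∀ n, Nonempty (L n ≅ L' n) := fun n => by
  induction n with
  | zero => exact ⟨e₀⟩
  | succ n ih =>
    exact step Xs fs ts hcart hflat h1 n (hL _) (hL' _)
      ((hLt n).some ≪≫ ih.some ≪≫ (hL't n).some.symm)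

end Groth.Agent.H95.Torsor.Adic
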