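import Groth.Agent.H95.Torsor.Vanish
import Groth.Agent.H95.Units.Ker
import Groth.Agent.Lib.Ample.GenLocus
import Groth.Agent.Lib.TensorMod.Invertible
import Groth.Agent.Lib.Modules.Local
import Groth.Agent.H95.TopInv.Hom
import Groth.Prelude.Def_Formal2

/-!
# `H¹` of the kernel of the units map kills line bundles trivial on the closed subscheme
-/

set_option autoImplicit false
universe u

open CategoryTheory CategoryTheory.Limits AlgebraicGeometry TopologicalSpace Opposite

namespace Groth.Agent.H95.Torsor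

open Groth.Agent.Lib.TensorMod.Gen Groth.Agent.Lib.TensorMod.Dual Groth.Agent.Lib.TensorMod.Pullback
  Groth.Agent.Lib.Ample.GenLocus Groth.Agent.Lib.TensorMod.LocIso
open Groth.Agent.H95.Units (K ev ev_add ev_res ev_injective exists_kernel_section app_kernel_ι)

variable {X Z : Scheme.{u}} {L : X.Modules}

lemma isUnit_of_gen_eq {U : X.Opens} {e e' : Γ(L, U)} (he : IsGen L U e) (he' : IsGen L U e')
    {a : Γ(X, U)} (h : a • e = e') : IsUnit a := by
  obtain ⟨b, hb⟩ := (he' U le_rfl).2 e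
  simp only [rs_self] at hb
  rw [← h, smul_smul] at hb
  have h2 : b * a = 1 := (he U le_rfl).1 (show (b * a) • rs L le_rfl e = 1 • rs L le_rfl e by
    rw [rs_self, hb, one_smul])
  exact IsUnit.of_mul_eq_one b ((mul_comm a b).trans h2)

lemma exists_smul_eq {U : X.Opens} {e : Γ(L, U)} (he : IsGen L U e) (m : Γ(L, U)) :
    ∃ a : Γ(X, U), a • e = m := by
  obtain ⟨a, ha⟩ := (he U le_rfl).2 m
  simp only [rs_self] at ha
  exact ⟨a, ha⟩

lemma smul_inj {U : X.Opens} {e : Γ(L, U)} (he : IsGen L U e) {a b : Γ(X, U)} (h : a • e = b • e) :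
    a = b :=
  (he U le_rfl).1 (show a • rs L le_rfl e = b • rs L le_rfl e by rwa [rs_self])

variable (i : Z ⟶ X)

/-- units of `X` which are `1` on `Z` are sections of the kernel -/
lemma exists_ev_of_app_eq_one {U : X.Opens} (v : Γ(X, U)ˣ) (h : i.app U v = 1) :
    ∃ m : (K i).obj.obj (op U), ev i m = v := by
  obtain ⟨m, hm⟩ := exists_kernel_section (UnitsSh.comap i) U
    (UnitsSh.sectOfUnit (O := X.presheaf) v) (congrArg Additive.ofMul (Units.ext h))
  exact ⟨m, congrArg (UnitsSh.unitOfSect (O := X.presheaf)) hm⟩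

lemma app_ev {U : X.Opens} (m : (K i).obj.obj (op U)) : i.app U (ev i m : Γ(X, U)) = 1 :=
  congrArg (fun s => ((Additive.toMul s : Γ(Z, i ⁻¹ᵁ U)ˣ) : Γ(Z, i ⁻¹ᵁ U)))
    (app_kernel_ι (UnitsSh.comap i) U m)

lemma isUnit_of_app [Surjective i] {U : X.Opens} {a : Γ(X, U)} (h : IsUnit (i.app U a)) :
    IsUnit a := by
  refine X.toRingedSpace.isUnit_of_isUnit_germ U a fun x hx => ?_
  rw [← Scheme.mem_basicOpen X a x hx]
  obtain ⟨z, rfl⟩ := i.surjective x
  have h1 : z ∈ i ⁻¹ᵁ X.basicOpen a := by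
    rw [Scheme.preimage_basicOpen, Z.basicOpen_of_isUnit h]
    exact hx
  exact h1

lemma rf_app {U V : X.Opens} (h : V ≤ U) (a : Γ(X, U)) :
    rf (i.preimage_mono h) (i.app U a) = i.app V (rf h a) :=
  (congr($(i.naturality (homOfLE h).op) a)).symm

variable [IsClosedImmersion i] [Surjective i]

/-- local generators compatible with a global generator on `Z` -/
lemma exists_good_gen (hL : PicF.IsInvertible L)
    {e₀ : Γ((Scheme.Modules.pullback i).obj L, ⊤)}
    (he₀ : IsGen ((Scheme.Modules.pullback i).obj L) ⊤ e₀) (x : X) :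
    ∃ (U : X.Opens) (e : Γ(L, U)), x ∈ U ∧ IsGen L U e ∧
      unitSec i L e = rs ((Scheme.Modules.pullback i).obj L) le_top e₀ := by
  obtain ⟨V, e, hxV, he⟩ := isInvertible_iff.1 hL x
  obtain ⟨_, ⟨U, hU, rfl⟩, hxU, hUV⟩ :=
    X.isBasis_affineOpens.exists_subset_of_mem_open (show x ∈ (V : Set X) from hxV) V.isOpen
  replace hU : IsAffineOpen U := hU
  have he' := he.res (show U ≤ V from hUV)
  have hg := isGen_unitSec i he'
  have hg₀ := he₀.res (le_top (a := i ⁻¹ᵁ U))
  obtain ⟨v, hv⟩ := exists_smul_eq hg (rs _ (le_top (a := i ⁻¹ᵁ U)) e₀)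
  obtain ⟨w, rfl⟩ := i.app_surjective U hU v
  have hw : IsUnit w := isUnit_of_app i (isUnit_of_gen_eq hg hg₀ hv)
  exact ⟨U, w • rs L hUV e, hxU, IsGen_smul_isUnit he' hw, (unitSec_smul i w _).trans hv⟩

/-- sections of a sheaf of modules glue -/
lemma exists_glue {ι : Type u} (U : ι → X.Opens) (hU : iSup U = ⊤) (s : ∀ a, Γ(L, U a))
    (hs : ∀ a b, rs L (inf_le_left : U a ⊓ U b ≤ U a) (s a) = rs L (inf_le_right : U a ⊓ U b ≤ U b) (s b)) :
    ∃ t : Γ(L, ⊤), ∀ a, rs L le_top t = s a := by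
  obtain ⟨t, ht, -⟩ := TopCat.Sheaf.existsUnique_gluing' (C := AddCommGrpCat.{u}) (Coh.toAb L) U ⊤
    (fun a => homOfLE le_top) hU.ge s hs
  exact ⟨t, ht⟩

theorem trivial_of_trivial_pullback (h : Subsingleton (CohTop.H (K i) 1)) (hL : PicF.IsInvertible L)
    (t : (Scheme.Modules.pullback i).obj L ≅ Coh.structureModule Z) :
    Nonempty (L ≅ Coh.structureModule X) := by
  let P := (Scheme.Modules.pullback i).obj L
  let e₀ : Γ(P, ⊤) := t.inv.app ⊤ (one Z ⊤)
  have he₀ : IsGen P ⊤ e₀ :=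
    isGen_of_isIso_over (isIso_over_of_iso t.symm ⊤) (Groth.Agent.Lib.Ample.GenLocus.isGen_one ⊤)
  choose U e hxU he hη using exists_good_gen i hL he₀
  have hU : iSup U = ⊤ := eq_top_iff.2 fun x _ => Opens.mem_iSup.2 ⟨x, hxU x⟩
  -- transition units
  have hc : ∀ (a b : X) (V : X.Opens) (ha : V ≤ U a) (hb : V ≤ U b),
      ∃ m : (K i).obj.obj (op V), (ev i m : Γ(X, V)) • rs L hb (e b) = rs L ha (e a) := by
    intro a b V ha hb
    obtain ⟨c, hc⟩ := exists_smul_eq ((he b).res hb) (rs L ha (e a))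
    have hcu := isUnit_of_gen_eq ((he b).res hb) ((he a).res ha) hc
    obtain ⟨m, hm⟩ := exists_ev_of_app_eq_one i hcu.unit (by
      refine smul_inj (L := P) (he₀.res (le_top (a := i ⁻¹ᵁ V))) ?_
      rw [one_smul]
      change i.app V c • _ = _
      have h1 : rs P (le_top (a := i ⁻¹ᵁ V)) e₀ = unitSec i L (rs L hb (e b)) := by
        rw [← unitSec_rs, hη, rs_rs]
      rw [h1]
      refine (unitSec_smul i c _).symm.trans ?_
      rw [hc, ← unitSec_rs, ← unitSec_rs, hη, hη, rs_rs, rs_rs])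
    exact ⟨m, by rw [hm, IsUnit.unit_spec]; exact hc⟩
  open Groth.Agent.Lib.Cech.Complex in
  let c : Cochain (X := X.toTopCat) U (K i).obj 1 := fun j =>
    (hc (j 0) (j 1) (inter U j) (inter_le U j 0) (inter_le U j 1)).choose
  have hcspec : ∀ j : Fin 2 → X,
      (ev i (c j) : Γ(X, Groth.Agent.Lib.Cech.Complex.inter (X := X.toTopCat) U j)) •
        rs L (Groth.Agent.Lib.Cech.Complex.inter_le (X := X.toTopCat) U j 1) (e (j 1)) =
      rs L (Groth.Agent.Lib.Cech.Complex.inter_le (X := X.toTopCat) U j 0) (e (j 0)) := fun j =>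
    (hc (j 0) (j 1) _ _ _).choose_spec
  open Groth.Agent.Lib.Cech.Complex in
  have hres : ∀ (j : Fin 2 → X) (V : X.Opens) (hV : V ≤ inter (X := X.toTopCat) U j)
      (h0 : V ≤ U (j 0)) (h1 : V ≤ U (j 1)),
      (ev i (res (K i).obj hV (c j)) : Γ(X, V)) • rs L h1 (e (j 1)) = rs L h0 (e (j 0)) := by
    intro j V hV h0 h1
    have := congrArg (rs L hV) (hcspec j)
    rw [rs_smul, rs_rs, rs_rs] at this
    refine (congrArg (· • rs L h1 (e (j 1))) ?_).trans this
    exact ev_res i hV (c j)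
  open Groth.Agent.Lib.Cech.Complex in
  have hcoc : dC (X := X.toTopCat) U (K i).obj 1 c = 0 := by
    funext j
    let V : X.Opens := inter (X := X.toTopCat) U j
    let m : Fin 3 → (K i).obj.obj (op V) := fun k => res (K i).obj (inter_le_face U j k) (c (j ∘ k.succAbove))
    let E : ∀ k : Fin 3, Γ(L, V) := fun k => rs L (inter_le U j k) (e (j k))
    have h0 : (ev i (m 0) : Γ(X, V)) • E 2 = E 1 :=
      hres (j ∘ (0 : Fin 3).succAbove) V (inter_le_face U j 0) (inter_le U j 1) (inter_le U j 2)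
    have h1 : (ev i (m 1) : Γ(X, V)) • E 2 = E 0 :=
      hres (j ∘ (1 : Fin 3).succAbove) V (inter_le_face U j 1) (inter_le U j 0) (inter_le U j 2)
    have h2 : (ev i (m 2) : Γ(X, V)) • E 1 = E 0 :=
      hres (j ∘ (2 : Fin 3).succAbove) V (inter_le_face U j 2) (inter_le U j 0) (inter_le U j 1)
    have hm : m 1 = m 2 + m 0 := ev_injective i (Units.ext (smul_inj ((he (j 2)).res (inter_le U j 2)) (by
      rw [ev_add, Units.val_mul, mul_smul]
      exact h1.trans (h2.symm.trans (congrArg ((ev i (m 2) : Γ(X, V)) • ·) h0.symm)))))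
    rw [dC_apply, Pi.zero_apply, Fin.sum_univ_three]
    change (1 : ℤ) • m 0 + (-1 : ℤ) • m 1 + (1 : ℤ) • m 2 = 0
    rw [hm]
    abel
  obtain ⟨a, ha⟩ := exists_coboundary (X := X.toTopCat) (K i) h U hU c hcoc
  open Groth.Agent.Lib.Cech.Complex in
  let A : ∀ x, (K i).obj.obj (op (U x)) := fun x =>
    res (K i).obj (le_iInf fun _ => le_rfl : U x ≤ inter (X := X.toTopCat) U fun _ : Fin 1 => x) (a fun _ => x)
  let s : ∀ x, Γ(L, U x) := fun x => (ev i (A x) : Γ(X, U x)) • e x
  have hs : ∀ x y, rs L (inf_le_left : U x ⊓ U y ≤ U x) (s x) = rs L (inf_le_right : U x ⊓ U y ≤ U y) (s y) := by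
    open Groth.Agent.Lib.Cech.Complex in
    intro x y
    let V : X.Opens := U x ⊓ U y
    have hV : V ≤ inter (X := X.toTopCat) U ![x, y] := le_iInf fun k => by
      fin_cases k
      · exact inf_le_left
      · exact inf_le_right
    have key : res (K i).obj (inf_le_right : V ≤ U y) (A y) =
        res (K i).obj hV (c ![x, y]) + res (K i).obj (inf_le_left : V ≤ U x) (A x) := by
      rw [← sub_eq_iff_eq_add, ← congr_fun ha ![x, y], dC_apply, Fin.sum_univ_two, map_add,
        map_zsmul, map_zsmul, res_res, res_res, res_res, res_res,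
        cochain_congr U (K i).obj a (show (![x, y] ∘ (0 : Fin 2).succAbove) = fun _ => y from
          funext fun k => by fin_cases k; rfl) _ (le_iInf fun _ => inf_le_right),
        cochain_congr U (K i).obj a (show (![x, y] ∘ (1 : Fin 2).succAbove) = fun _ => x from
          funext fun k => by fin_cases k; rfl) _ (le_iInf fun _ => inf_le_left)]
      change _ = (1 : ℤ) • _ + (-1 : ℤ) • _
      rw [one_smul, neg_one_smul, sub_eq_add_neg]
    have h1 := hres ![x, y] V hV inf_le_left inf_le_right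
    change _ = rs L inf_le_left (e x) at h1
    change rs L _ ((ev i (A x) : Γ(X, U x)) • e x) = rs L _ ((ev i (A y) : Γ(X, U y)) • e y)
    rw [rs_smul, rs_smul, ← h1]
    change rf inf_le_left (ev i (A x) : Γ(X, U x)) • (ev i (res (K i).obj hV (c ![x, y])) : Γ(X, V)) •
      rs L inf_le_right (e y) = _
    rw [smul_smul]
    refine congrArg (· • rs L inf_le_right (e y)) ?_
    refine Eq.trans ?_ (ev_res i (inf_le_right : V ≤ U y) (A y))
    change _ = (ev i (res (K i).obj (inf_le_right : V ≤ U y) (A y)) : Γ(X, V))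
    rw [key, ev_add, Units.val_mul, mul_comm]
    exact congrArg ((ev i (res (K i).obj hV (c ![x, y])) : Γ(X, V)) * ·) (ev_res i inf_le_left (A x)).symm
  obtain ⟨t, ht⟩ := exists_glue U hU s hs
  obtain ⟨φ, hφ⟩ := exists_hom_of_family (M := L) (fun W => rs L le_top t) fun V W hVW => rs_rs L _ _ t
  haveI : IsIso φ := Lib.Modules.Local.isIso_of_restrict U hU φ fun x => by
    refine (isIso_restrict_iff φ (U x)).2 ?_
    rw [show sv φ (U x) = s x from (hφ (U x)).trans (ht x)]
    exact IsGen_smul_isUnit (he x) (Units.isUnit _)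
  exact ⟨(asIso φ).symm⟩

end Groth.Agent.H95.Torsor
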